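import Groth.Agent.EtFinEmbed.PushLimit
import Groth.Agent.EtTorLib.ConstPushNormal
import Groth.Agent.EtAICLib.Normalization
import Groth.Agent.EtBCFib.Const
import Groth.Agent.EtFound.Crit
import Groth.Agent.EtFound.ConstrAb
import Groth.Agent.S7382
import Groth.Agent.CdInt.PushStep
import Groth.Agent.EtFound.FinitePushConstr

/-! constructible sheaves embed into direct images of constant sheaves along finite morphisms -/

set_option autoImplicit false
set_option linter.style.haveILetI false

universe u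

open CategoryTheory CategoryTheory.Limits AlgebraicGeometry Opposite

namespace Groth.Agent.EtFinEmbed

set_option backward.isDefEq.respectTransparency false
set_option backward.isDefEq.respectTransparency.types false

open EtFound

/-- a type with `n` elements, without operations -/
def FinT (n : ℕ) : Type := Fin n

instance (n : ℕ) : Finite (FinT n) := inferInstanceAs (Finite (Fin n))

/-- every point is the image of the generic point of an integral normal scheme, integral over the
base, with separably closed function field -/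
theorem exists_integral_normal {X : Scheme.{u}} [QuasiSeparatedSpace X] (x : X) :
    ∃ (Z : Scheme.{u}) (_ : IsIntegral Z) (π : Z ⟶ X) (_ : IsIntegralHom π),
      π (genericPoint Z) = x ∧ Pi1.IsNormalScheme Z ∧ IsSepClosed (Z.residueField (genericPoint Z)) := by
  let Ω := AlgebraicClosure (X.residueField x)
  let f : Spec (CommRingCat.of Ω) ⟶ X :=
    Spec.map (CommRingCat.ofHom (algebraMap (X.residueField x) Ω)) ≫ X.fromSpecResidueField x
  haveI : IsIntegral (Spec (CommRingCat.of Ω)) := inferInstance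
  have hT : EtAICLib.AICS (Spec (CommRingCat.of Ω)) :=
    EtAICLib.aics_spec (EtAICLib.isAIC_of_isAlgClosed)
  have hZ : EtAICLib.AICS f.normalization := EtAICLib.aics_normalization_of_integral f hT
  have hfield : Curves.IsAIC (f.normalization.residueField (genericPoint f.normalization)) :=
    EtAICLib.isAIC_of_surjective (IsLocalRing.residue (f.normalization.presheaf.stalk (genericPoint f.normalization)))
      Ideal.Quotient.mk_surjective (hZ _)
  haveI : IsAlgClosed (f.normalization.residueField (genericPoint f.normalization)) :=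
    IsAlgClosed.of_exists_root _ fun p hp hirr => hfield p hp hirr.natDegree_pos
  refine ⟨f.normalization, inferInstance, f.fromNormalization, inferInstance, ?_,
    fun z => ⟨inferInstance, hZ.isIntegrallyClosed z⟩, inferInstance⟩
  have hgen : f.toNormalization (default : Spec (CommRingCat.of Ω)) = genericPoint f.normalization := by
    have hd := f.toNormalization.denseRange.closure_range
    rw [Set.range_unique] at hd
    exact IsGenericPoint.eq hd (genericPoint_spec _)
  rw [← hgen, ← Scheme.Hom.comp_apply, Scheme.Hom.toNormalization_fromNormalization]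
  exact (Scheme.Hom.comp_apply _ _ _).trans (Scheme.fromSpecResidueField_apply x _)

variable {X : Scheme.{u}}

/-- near a point, a map into a finite direct image of a constant sheaf which is injective on the stalk -/
theorem exists_map_injective_at [CompactSpace X] [QuasiSeparatedSpace X] {F : EtCoh.Ab X}
    (hF : EtPBC.IsConstructible F) (x : X) :
    ∃ (Y : Scheme.{u}) (f : Y ⟶ X) (_ : IsFinite f) (_ : LocallyOfFinitePresentation f)
      (M : Type) (_ : AddCommGroup M) (_ : Finite M)
      (ψ : F ⟶ (EtCoh.push f).obj (EtCoh.const Y M)) (Ω : Type u) (_ : Field Ω) (_ : IsSepClosed Ω)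
      (ξ : Spec (CommRingCat.of Ω) ⟶ X),
      ξ.base (default : Spec (CommRingCat.of Ω)) = x ∧ Mono ((EtCoh.stalk ξ).map ψ) := by
  obtain ⟨Z, hZ, π, hπ, hx, hnorm, hK⟩ := exists_integral_normal x
  let K : Type u := Z.residueField (genericPoint Z)
  let j : Spec (CommRingCat.of K) ⟶ Z := Z.fromSpecResidueField (genericPoint Z)
  haveI : IsSepClosed K := hK
  haveI : IsPreimmersion j := inferInstanceAs (IsPreimmersion (Z.fromSpecResidueField (genericPoint Z)))
  let G := (EtCoh.pull π).obj F
  let P := (EtCoh.pull j).obj G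
  obtain ⟨eP⟩ := EtBCFib.nonempty_iso_const P
  let A := (EtCore.gsec (Spec (CommRingCat.of K))).obj P
  let ξ₀ : Spec (CommRingCat.of K) ⟶ Spec (CommRingCat.of K) := 𝟙 _
  -- the group of values is finite
  haveI hfin : Finite A := by
    let U := EtCoh.top (Spec (CommRingCat.of K))
    let u₀ : (Scheme.pointSmallEtale ξ₀).fiber.obj U := CategoryTheory.Over.homMk (𝟙 _) (Category.comp_id _)
    have hb := toSheafify_const_germ_bijective ξ₀ AddCommGrpCat.{u + 1} A U u₀
    haveI : Finite ((EtCoh.stalk ξ₀).obj P) :=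
      finite_stalk_of_isConstructible (isConstructible_pull j (isConstructible_pull π hF)) ξ₀
    let eS := ((EtCoh.stalk ξ₀).mapIso eP).addCommGroupIsoToAddEquiv
    haveI : Finite ((EtCoh.stalk ξ₀).obj ((constantSheaf (Spec (CommRingCat.of K)).smallEtaleTopology
      AddCommGrpCat.{u + 1}).obj A)) := Finite.of_equiv _ eS.symm.toEquiv
    exact Finite.of_injective (β := (EtCoh.stalk ξ₀).obj ((constantSheaf (Spec (CommRingCat.of K)).smallEtaleTopology
      AddCommGrpCat.{u + 1}).obj A)) _ hb.1
  let M : Type := FinT (Nat.card A)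
  let eM : M ≃ A := (Finite.equivFin A).symm
  letI : AddCommGroup M := eM.addCommGroup
  let eA' : M ≃+ A := { eM with map_add' := fun a b => by show eM (eM.symm (eM a + eM b)) = eM a + eM b; exact eM.apply_symm_apply _ }
  let eA'' : A ≃+ ULift.{u + 1} M := eA'.symm.trans (AddEquiv.ulift : ULift.{u + 1} M ≃+ M).symm
  let eA : A ≅ AddCommGrpCat.of (ULift.{u + 1} M) :=
    AddEquiv.toAddCommGrpIso (X := A) (Y := AddCommGrpCat.of (ULift.{u + 1} M)) eA''
  -- the sheaf on `Z`
  haveI hu : IsIso ((EtCoh.pullPushAdj j).unit.app (EtCoh.const Z M)) :=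
    EtTorLib.isIso_unit_of_connectedNear j M (EtTorLib.connectedNear_of_isIntegral j hnorm
      ⟨default, Scheme.fromSpecResidueField_apply _ _⟩)
  let eK : P ≅ (EtCoh.pull j).obj (EtCoh.const Z M) :=
    eP.symm ≪≫ (constantSheaf (Spec (CommRingCat.of K)).smallEtaleTopology AddCommGrpCat.{u + 1}).mapIso eA ≪≫
      (EtCore.pullConst j M).symm
  let eR : (EtCoh.push j).obj P ≅ lcSheaf (ULift.{u + 1} M) Z :=
    (EtCoh.push j).mapIso eK ≪≫ (asIso ((EtCoh.pullPushAdj j).unit.app (EtCoh.const Z M))).symm ≪≫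
      constIsoLc (ULift.{u + 1} M) Z
  let a : G ⟶ lcSheaf (ULift.{u + 1} M) Z := (EtCoh.pullPushAdj j).unit.app G ≫ eR.hom
  let φ : F ⟶ pushLc (ULift.{u + 1} M) π := ((EtCoh.pullPushAdj π).homEquiv _ _) a
  -- the map is injective at the point
  haveI ha : Mono ((EtCoh.pull j).map a) := by
    haveI : Mono ((EtCoh.pull j).map ((EtCoh.pullPushAdj j).unit.app G)) :=
      (SplitMono.mk ((EtCoh.pullPushAdj j).counit.app ((EtCoh.pull j).obj G))
        ((EtCoh.pullPushAdj j).left_triangle_components G)).mono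
    rw [Functor.map_comp]
    infer_instance
  have hsplit : (EtCoh.pull π).map φ ≫ (EtCoh.pullPushAdj π).counit.app _ = a :=
    ((EtCoh.pullPushAdj π).homEquiv_counit _ _ φ).symm.trans (((EtCoh.pullPushAdj π).homEquiv _ _).symm_apply_apply a)
  haveI hm : Mono ((EtCoh.pull j).map ((EtCoh.pull π).map φ)) :=
    mono_of_mono_fac ((Functor.map_comp _ _ _).symm.trans (congrArg (EtCoh.pull j).map hsplit))
  haveI : Mono ((EtCoh.stalk ξ₀).map ((EtCoh.pull j).map ((EtCoh.pull π).map φ))) := Functor.map_mono _ _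
  let ξ : Spec (CommRingCat.of K) ⟶ X := (ξ₀ ≫ j) ≫ π
  have hφ : Mono ((EtCoh.stalk ξ).map φ) := by
    have h1 : Mono ((EtCoh.stalk (ξ₀ ≫ j)).map ((EtCoh.pull π).map φ)) :=
      ((MorphismProperty.monomorphisms _).arrow_mk_iso_iff
        (Arrow.isoMk ((stalkPullIso j ξ₀).app _) ((stalkPullIso j ξ₀).app _)
          ((stalkPullIso j ξ₀).hom.naturality ((EtCoh.pull π).map φ)).symm)).1
        (show (MorphismProperty.monomorphisms AddCommGrpCat.{u + 1})
          ((EtCoh.pull j ⋙ EtCoh.stalk ξ₀).map ((EtCoh.pull π).map φ)) from ‹Mono _›)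
    exact ((MorphismProperty.monomorphisms _).arrow_mk_iso_iff
      (Arrow.isoMk ((stalkPullIso π (ξ₀ ≫ j)).app _) ((stalkPullIso π (ξ₀ ≫ j)).app _)
        ((stalkPullIso π (ξ₀ ≫ j)).hom.naturality φ).symm)).1
      (show (MorphismProperty.monomorphisms AddCommGrpCat.{u + 1})
        ((EtCoh.pull π ⋙ EtCoh.stalk (ξ₀ ≫ j)).map φ) from h1)
  -- descend to a finite stage
  obtain ⟨I, _, _, _, E, c, hc, hE, ⟨ec⟩⟩ := S7382.result π
  have hw : ec.inv.left ≫ c.pt.hom = π := CategoryTheory.Over.w ec.inv
  have hw' : ec.hom.left ≫ π = c.pt.hom := CategoryTheory.Over.w ec.hom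
  let φc : F ⟶ pushLc (ULift.{u + 1} M) c.pt.hom := φ ≫ pushLcMap _ ec.hom.left hw'
  have hback : φc ≫ pushLcMap _ ec.inv.left hw = φ := by
    rw [Category.assoc, pushLcMap_comp _ _ _ _ _ (ec.inv.left ≫ ec.hom.left) rfl
      (by rw [Category.assoc, hw', hw]), pushLcMap_id _ _ (by rw [← CategoryTheory.Over.comp_left, ec.inv_hom_id]; rfl)]
    exact Category.comp_id φ
  haveI : Finite (ULift.{u + 1} M) := inferInstance
  obtain ⟨k, ψ, hψ⟩ := exists_stage_hom E c hc (fun a => by haveI := (hE a).1; infer_instance) hF φc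
  let e : pushLc (ULift.{u + 1} M) (E.obj (op k)).hom ≅ (EtCoh.push (E.obj (op k)).hom).obj (EtCoh.const _ M) :=
    (EtCoh.push (E.obj (op k)).hom).mapIso (constIsoLc (ULift.{u + 1} M) (E.obj (op k)).left).symm
  refine ⟨(E.obj (op k)).left, (E.obj (op k)).hom, (hE _).1, (hE _).2, M, inferInstance, inferInstance,
    ψ ≫ e.hom, K, inferInstance, inferInstance, ξ, ?_, ?_⟩
  · show ((ξ₀ ≫ j) ≫ π).base _ = x
    rw [← hx]
    exact (Scheme.Hom.comp_apply _ _ _).trans (congrArg π.base
      ((Scheme.Hom.comp_apply _ _ _).trans (Scheme.fromSpecResidueField_apply _ _)))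
  · rw [← hback, ← hψ, Category.assoc, Functor.map_comp] at hφ
    haveI := hφ
    haveI : Mono ((EtCoh.stalk ξ).map ψ) := @mono_of_mono _ _ _ _ _ _ _ hφ
    rw [Functor.map_comp]
    infer_instance

/-- constructible sheaves on quasi-compact quasi-separated schemes embed into finite sums of direct
images of finite constant sheaves along finite morphisms of finite presentation -/
theorem exists_embedding [CompactSpace X] [QuasiSeparatedSpace X] {F : EtCoh.Ab X}
    (hF : EtPBC.IsConstructible F) :
    ∃ (n : ℕ) (Y : Fin n → Scheme.{u}) (f : ∀ i, Y i ⟶ X) (_ : ∀ i, IsFinite (f i))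
      (_ : ∀ i, LocallyOfFinitePresentation (f i))
      (M : Fin n → Type) (_ : ∀ i, AddCommGroup (M i)) (_ : ∀ i, Finite (M i))
      (ι : F ⟶ ⨁ fun i => (EtCoh.push (f i)).obj (EtCoh.const (Y i) (M i))), Mono ι := by
  classical
  choose Y f hf₁ hf₂ M hM₁ hM₂ ψ Ω hΩ₁ hΩ₂ ξ hξ hinj using fun x : X => exists_map_injective_at hF x
  have hP : ∀ A B : Type (u + 1), Nonempty (A ≃ B) → Subsingleton A → Subsingleton B :=
    fun A B ⟨e⟩ _ => e.symm.subsingleton
  have hker : ∀ x, EtPBC.IsConstructible (kernel (ψ x)) := fun x => by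
    haveI := hf₁ x
    haveI := hf₂ x
    exact isConstructible_kernel _ hF (isConstructible_push (f x) (CdInt.isConstructible_const (Y x) (M x)))
  let S : X → Set X := fun x => stalkSet (kernel (ψ x)) Subsingleton
  have hmem : ∀ x, x ∈ S x := fun x => by
    refine Eq.mp (congrArg (· ∈ S x) (hξ x)) ?_
    refine (mem_stalkSet_iff hP (ξ x)).2 ?_
    haveI := hinj x
    have hz : IsZero ((EtCoh.stalk (ξ x)).obj (kernel (ψ x))) :=
      (isZero_kernel_of_mono ((EtCoh.stalk (ξ x)).map (ψ x))).of_iso (PreservesKernel.iso (EtCoh.stalk (ξ x)) (ψ x))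
    exact AddCommGrpCat.subsingleton_of_isZero hz
  obtain ⟨t, ht⟩ := EtFound.exists_finite_cover S
    (fun x => (isLocallyConstructible_stalkSet (hker x) hP).isConstructible) (fun x => ⟨x, hmem x⟩)
  let e := (Finset.equivFin t).symm
  let ι := biproduct.lift fun i => ψ (e i).1
  refine ⟨t.card, fun i => Y (e i).1, fun i => f (e i).1, fun i => hf₁ _, fun i => hf₂ _,
    fun i => M (e i).1, fun i => hM₁ _, fun i => hM₂ _, ι, ?_⟩
  refine Preadditive.mono_of_kernel_zero (eq_of_stalks _ _ fun k _ _ ζ => ?_)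
  obtain ⟨x, hx, hζ⟩ := ht (ζ.base (default : Spec (CommRingCat.of k)))
  obtain ⟨i, hi⟩ := e.surjective ⟨x, hx⟩
  let r : kernel ι ⟶ kernel (ψ (e i).1) := kernel.lift _ (kernel.ι ι) (by
    rw [← biproduct.lift_π (fun i => ψ (e i).1) i, ← Category.assoc, kernel.condition, zero_comp])
  have hsub : Subsingleton ((EtCoh.stalk ζ).obj (kernel (ψ (e i).1))) := by
    rw [hi]; exact (mem_stalkSet_iff hP ζ).1 hζ
  have h0 : kernel.ι ι = r ≫ kernel.ι (ψ (e i).1) := (kernel.lift_ι _ _ _).symm
  change (EtCoh.stalk ζ).map (kernel.ι ι) = (EtCoh.stalk ζ).map 0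
  rw [h0, Functor.map_comp, Functor.map_zero]
  exact AddCommGrpCat.ext fun z => by
    rw [ConcreteCategory.comp_apply, @Subsingleton.elim _ hsub (((EtCoh.stalk ζ).map r) z) 0, map_zero]
    rfl

end Groth.Agent.EtFinEmbed
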