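import Mathlib.AlgebraicGeometry.AffineTransitionLimit
import Mathlib.AlgebraicGeometry.Morphisms.QuasiSeparated
import Mathlib.Topology.LocallyConstant.Basic

/-! locally constant functions on a limit of schemes come from a stage -/

set_option autoImplicit false

universe u v

open CategoryTheory CategoryTheory.Limits AlgebraicGeometry TopologicalSpace

namespace Groth.Agent.EtFinEmbed

variable {I : Type u} [Category.{u} I] [IsCofiltered I] (D : I ⥤ Scheme.{u}) (c : Cone D) (hc : IsLimit c)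
  [∀ {i j} (f : i ⟶ j), IsAffineHom (D.map f)] [∀ i, CompactSpace (D.obj i)]
  [∀ i, QuasiSeparatedSpace (D.obj i)] {T : Type v}

include hc in
/-- two locally constant functions at a stage which agree on the limit agree at a later stage -/
theorem exists_map_eq_of_eq {i : I} (s t : LocallyConstant (D.obj i) T)
    (h : ∀ z, s (c.π.app i z) = t (c.π.app i z)) :
    ∃ (j : I) (f : j ⟶ i), ∀ z, s (D.map f z) = t (D.map f z) := by
  let N : Set (D.obj i) := {z | s z ≠ t z}
  have hN : IsClopen N := by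
    have := ((s.2.prodMk t.2).comp fun p => p.1 = p.2).isClopen_fiber False
    simpa [N] using this
  obtain ⟨j, f, hj⟩ := exists_map_preimage_le_map_preimage D c hc (U := ⟨N, hN.2⟩) (V := ⊥)
    hN.1.isCompact (fun z hz => (hz (h z)).elim)
  exact ⟨j, f, fun z => not_not.1 fun hne => (hj (x := z) hne).elim⟩

include hc in
/-- a clopen subset of the limit comes from a clopen subset of a stage -/
theorem exists_clopen_preimage_eq {S : Set c.pt} (hS : IsClopen S) :
    ∃ (i : I) (C : Set (D.obj i)), IsClopen C ∧ c.π.app i ⁻¹' C = S := by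
  haveI : CompactSpace c.pt := Scheme.compactSpace_of_isLimit D c hc
  obtain ⟨i₁, U₁, hU₁, e₁⟩ := exists_preimage_eq D c hc ⟨S, hS.2⟩ hS.1.isCompact
  obtain ⟨i₂, U₂, hU₂, e₂⟩ := exists_preimage_eq D c hc ⟨Sᶜ, hS.1.isOpen_compl⟩ hS.compl.1.isCompact
  let i := IsCofiltered.min i₁ i₂
  let U : (D.obj i).Opens := D.map (IsCofiltered.minToLeft i₁ i₂) ⁻¹ᵁ U₁
  let V : (D.obj i).Opens := D.map (IsCofiltered.minToRight i₁ i₂) ⁻¹ᵁ U₂
  have hU : ∀ z, c.π.app i z ∈ U ↔ z ∈ S := fun z => by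
    show D.map _ (c.π.app i z) ∈ U₁ ↔ _
    rw [← Scheme.Hom.comp_apply, c.w]
    exact Iff.of_eq (congrArg (fun W : c.pt.Opens => z ∈ W) e₁)
  have hV : ∀ z, c.π.app i z ∈ V ↔ z ∉ S := fun z => by
    show D.map _ (c.π.app i z) ∈ U₂ ↔ _
    rw [← Scheme.Hom.comp_apply, c.w]
    exact Iff.of_eq (congrArg (fun W : c.pt.Opens => z ∈ W) e₂)
  obtain ⟨j, f, hj⟩ := exists_map_eq_top D c hc (U ⊔ V) (TopologicalSpace.Opens.ext (Set.eq_univ_of_forall
    fun z => (em (z ∈ S)).elim (fun h => Or.inl ((hU z).2 h)) fun h => Or.inr ((hV z).2 h)))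
  have hUc : IsCompact (U : Set (D.obj i)) := QuasiCompact.isCompact_preimage _ U₁.2 hU₁
  have hVc : IsCompact (V : Set (D.obj i)) := QuasiCompact.isCompact_preimage _ U₂.2 hU₂
  obtain ⟨k, g, hk⟩ := exists_map_preimage_le_map_preimage D c hc
    (U := D.map f ⁻¹ᵁ (U ⊓ V)) (V := ⊥)
    (QuasiCompact.isCompact_preimage _ (U ⊓ V).2
      (QuasiSeparatedSpace.inter_isCompact _ _ U.2 hUc V.2 hVc))
    (fun z hz => by
      have h : c.π.app i z ∈ U ⊓ V := by rw [← c.w f, Scheme.Hom.comp_apply]; exact hz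
      exact absurd ((hU z).1 h.1) ((hV z).1 h.2))
  refine ⟨k, D.map (g ≫ f) ⁻¹' (U : Set (D.obj i)),
    ⟨isOpen_compl_iff.1 ?_, U.2.preimage (D.map (g ≫ f)).continuous⟩, Set.ext fun z => ?_⟩
  · have e : (D.map (g ≫ f) ⁻¹' (U : Set (D.obj i)))ᶜ = D.map (g ≫ f) ⁻¹' (V : Set (D.obj i)) := by
      ext z
      have hz : D.map g z ∈ D.map f ⁻¹ᵁ (U ⊔ V) := hj ▸ trivial
      have hz' : ¬ D.map g z ∈ D.map f ⁻¹ᵁ (U ⊓ V) := fun h => (hk (x := z) h).elim
      simp only [Functor.map_comp, Set.mem_compl_iff, Set.mem_preimage, Scheme.Hom.comp_apply]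
      exact ⟨fun h => hz.resolve_left h, fun h h' => hz' ⟨h', h⟩⟩
    rw [e]
    exact V.2.preimage (D.map (g ≫ f)).continuous
  · show D.map (g ≫ f) (c.π.app k z) ∈ U ↔ _
    rw [← Scheme.Hom.comp_apply, c.w]
    exact hU z

include hc in
/-- a locally constant function with finitely many values on the limit comes from a stage -/
theorem exists_stage_locallyConstant [Finite T] [Nonempty T] (s : LocallyConstant c.pt T) :
    ∃ (i : I) (t : LocallyConstant (D.obj i) T), ∀ z, t (c.π.app i z) = s z := by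
  classical
  choose i C hC hCs using fun a : T => exists_clopen_preimage_eq D c hc (s.2.isClopen_fiber a)
  haveI := Fintype.ofFinite T
  obtain ⟨k, hk⟩ := IsCofiltered.inf_objs_exists (Finset.univ.image i)
  let g : ∀ a : T, k ⟶ i a := fun a => (hk (Finset.mem_image_of_mem i (Finset.mem_univ a))).some
  let E : T → Set (D.obj k) := fun a => D.map (g a) ⁻¹' C a
  have hE : ∀ a, IsClopen (E a) := fun a => (hC a).preimage (D.map (g a)).continuous
  -- cut to a partition
  let e := Fintype.equivFin T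
  let E' : T → Set (D.obj k) := fun a => E a \ ⋃ b ∈ {b | e b < e a}, E b
  have hE' : ∀ a, IsClopen (E' a) := fun a =>
    (hE a).diff ((Set.toFinite _).isClopen_biUnion fun b _ => hE b)
  have hdisj : ∀ a b z, z ∈ E' a → z ∈ E' b → a = b := fun a b z ha hb => by
    rcases lt_trichotomy (e a) (e b) with h | h | h
    · exact (hb.2 (Set.mem_biUnion (show a ∈ {c | e c < e b} from h) ha.1)).elim
    · exact e.injective h
    · exact (ha.2 (Set.mem_biUnion (show b ∈ {c | e c < e a} from h) hb.1)).elim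
  have hlim : ∀ z, c.π.app k z ∈ E' (s z) := fun z => by
    have hm : ∀ a, c.π.app k z ∈ E a ↔ s z = a := fun a => by
      show D.map (g a) (c.π.app k z) ∈ C a ↔ _
      rw [← Scheme.Hom.comp_apply, c.w]
      exact Iff.of_eq (congrArg (fun S : Set c.pt => z ∈ S) (hCs a))
    refine ⟨(hm _).2 rfl, fun h => ?_⟩
    obtain ⟨b, hb, hzb⟩ := Set.mem_iUnion₂.1 h
    exact (lt_irrefl _ ((hm b).1 hzb ▸ (show e b < e (s z) from hb)))
  let G : D.obj k → T := fun z => if h : ∃ a, z ∈ E' a then h.choose else Classical.arbitrary T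
  have hG : ∀ a z, z ∈ E' a → G z = a := fun a z hz => by
    have hex : ∃ a, z ∈ E' a := ⟨a, hz⟩
    simp only [G, dif_pos hex]
    exact hdisj _ _ z hex.choose_spec hz
  have hloc : IsLocallyConstant G := by
    refine (IsLocallyConstant.iff_exists_open G).2 fun z => ?_
    by_cases h : ∃ a, z ∈ E' a
    · obtain ⟨a, ha⟩ := h
      exact ⟨E' a, (hE' a).2, ha, fun y hy => (hG a y hy).trans (hG a z ha).symm⟩
    · refine ⟨(⋃ a, E' a)ᶜ, ((isClopen_iUnion_of_finite hE').compl).2,
        fun hz => h (Set.mem_iUnion.1 hz), fun y hy => ?_⟩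
      simp only [G, dif_neg h, dif_neg fun h' : ∃ a, y ∈ E' a => hy (Set.mem_iUnion.2 h')]
  exact ⟨k, ⟨G, hloc⟩, fun z => hG _ _ (hlim z)⟩

end Groth.Agent.EtFinEmbed
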