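import Groth.Agent.EtFound.LocConst
import Groth.Agent.EtFound.Germ
import Groth.Agent.EtTorLib.PushColim
import Groth.Prelude.Def_EtBase
import Mathlib.Topology.LocallyConstant.Algebra

/-! the constant étale sheaf as the sheaf of locally constant functions -/

set_option autoImplicit false
set_option linter.style.haveILetI false

universe u

open CategoryTheory CategoryTheory.Limits AlgebraicGeometry Opposite

namespace Groth.Agent.EtFinEmbed

set_option backward.isDefEq.respectTransparency false
set_option backward.isDefEq.respectTransparency.types false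

open EtFound

variable {X : Scheme.{u}} (T : Type (u + 1)) [AddCommGroup T]

/-- composition with a map of schemes, as a map of groups -/
noncomputable def comapHom {A B : Scheme.{u}} (f : A ⟶ B) :
    AddCommGrpCat.of (LocallyConstant B T) ⟶ AddCommGrpCat.of (LocallyConstant A T) :=
  AddCommGrpCat.ofHom
    { toFun := LocallyConstant.comap ⟨f.base, f.continuous⟩
      map_zero' := rfl
      map_add' := fun _ _ => rfl }

theorem comapHom_apply {A B : Scheme.{u}} (f : A ⟶ B) (s : LocallyConstant B T) (a : A) :
    (comapHom T f s : LocallyConstant A T) a = s (f.base a) := rfl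

theorem comapHom_id (A : Scheme.{u}) : comapHom T (𝟙 A) = 𝟙 _ :=
  AddCommGrpCat.ext fun _ => LocallyConstant.ext fun _ => rfl

theorem comapHom_comp {A B C : Scheme.{u}} (f : A ⟶ B) (g : B ⟶ C) :
    comapHom T (f ≫ g) = comapHom T g ≫ comapHom T f :=
  AddCommGrpCat.ext fun _ => LocallyConstant.ext fun _ => rfl

/-- the presheaf of locally constant functions -/
noncomputable def lcPre (X : Scheme.{u}) : X.Etaleᵒᵖ ⥤ AddCommGrpCat.{u + 1} where
  obj W := AddCommGrpCat.of (LocallyConstant W.unop.left T)
  map g := comapHom T g.unop.left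
  map_id W := comapHom_id T _
  map_comp g h := comapHom_comp T h.unop.left g.unop.left

/-- the underlying function of a section -/
def val {W : X.Etale} (s : (lcPre T X).obj (op W)) : LocallyConstant W.left T := s

theorem val_map {W W' : X.Etale} (g : W' ⟶ W) (s : (lcPre T X).obj (op W)) (a : W'.left) :
    val T ((lcPre T X).map g.op s) a = val T s (g.left.base a) := rfl

theorem isSheaf_lcPre : Presheaf.IsSheaf X.smallEtaleTopology (lcPre T X) := by
  rw [Presheaf.isSheaf_iff_isSheaf_forget _ _ (forget AddCommGrpCat.{u + 1}), isSheaf_iff_isSheaf_of_type]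
  intro W R hR x hx
  have hcov := (mem_topology_iff R).1 hR
  choose V g v hg hv using hcov
  -- values agree on points with the same image
  have key : ∀ {V₁ V₂ : X.Etale} (g₁ : V₁ ⟶ W) (g₂ : V₂ ⟶ W) (h₁ : R g₁) (h₂ : R g₂)
      (v₁ : V₁.left) (v₂ : V₂.left), g₁.left.base v₁ = g₂.left.base v₂ →
      (val T (x g₁ h₁)) v₁ = (val T (x g₂ h₂)) v₂ := by
    intro V₁ V₂ g₁ g₂ h₁ h₂ v₁ v₂ h
    obtain ⟨p, hp₁, hp₂⟩ := Scheme.Pullback.exists_preimage_pullback v₁ v₂ h
    haveI := etale_left g₁
    haveI := etale_left g₂
    haveI : AlgebraicGeometry.Etale V₁.hom := V₁.prop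
    let Q : X.Etale := Scheme.Etale.mk (pullback.fst g₁.left g₂.left ≫ V₁.hom)
    let a : Q ⟶ V₁ := MorphismProperty.Over.homMk (pullback.fst g₁.left g₂.left) rfl
    let b : Q ⟶ V₂ := MorphismProperty.Over.homMk (pullback.snd g₁.left g₂.left) (by
      show pullback.snd g₁.left g₂.left ≫ V₂.hom = pullback.fst g₁.left g₂.left ≫ V₁.hom
      rw [← MorphismProperty.Over.w g₂, ← MorphismProperty.Over.w g₁, ← Category.assoc, ← Category.assoc,
        pullback.condition])
    have e := hx a b h₁ h₂ (MorphismProperty.Over.Hom.ext pullback.condition)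
    have e' := congrArg (fun s => val T s p) e
    refine Eq.trans ?_ (e'.trans ?_)
    · exact congrArg (val T (x g₁ h₁)) hp₁.symm
    · exact congrArg (val T (x g₂ h₂)) hp₂
  let F : W.left → T := fun w => (val T (x (g w) (hg w))) (v w)
  have hF : IsLocallyConstant F := by
    refine (IsLocallyConstant.iff_exists_open F).2 fun w => ?_
    haveI := etale_left (g w)
    obtain ⟨O, hO, hvO, hOc⟩ :=
      (IsLocallyConstant.iff_exists_open _).1 (val T (x (g w) (hg w))).2 (v w)
    refine ⟨(g w).left.base '' O, (g w).left.isOpenMap _ hO, ⟨v w, hvO, hv w⟩, ?_⟩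
    rintro _ ⟨y, hy, rfl⟩
    exact (key (g _) (g w) (hg _) (hg w) (v _) y (hv _)).trans (hOc y hy)
  refine ⟨(⟨F, hF⟩ : LocallyConstant W.left T), fun V' g' hg' => LocallyConstant.ext fun a => ?_, fun s hs => ?_⟩
  · exact key (g _) g' (hg _) hg' (v _) a (hv _)
  · refine LocallyConstant.ext fun w => ?_
    have e := congrArg (fun t => val T t (v w)) (hs (g w) (hg w))
    exact (congrArg (val T s) (hv w).symm).trans e

/-- the sheaf of locally constant functions -/
noncomputable def lcSheaf (X : Scheme.{u}) : EtCoh.Ab X := ⟨lcPre T X, isSheaf_lcPre T⟩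

/-- the constants -/
noncomputable def constIncl (X : Scheme.{u}) :
    (Functor.const X.Etaleᵒᵖ).obj (AddCommGrpCat.of T) ⟶ lcPre T X where
  app W := AddCommGrpCat.ofHom
    { toFun := LocallyConstant.const W.unop.left
      map_zero' := rfl
      map_add' := fun _ _ => rfl }
  naturality _ _ _ := AddCommGrpCat.ext fun _ => LocallyConstant.ext fun _ => rfl

theorem isLocallyInjective_constIncl : Presheaf.IsLocallyInjective X.smallEtaleTopology (constIncl T X) :=
  ⟨fun {W} m m' e => (mem_topology_iff _).2 fun w =>
    ⟨W.unop, 𝟙 _, w, by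
      have h : m = m' := congrArg (fun s => val T s w) e
      subst h
      rfl, rfl⟩⟩

theorem isLocallySurjective_constIncl : Presheaf.IsLocallySurjective X.smallEtaleTopology (constIncl T X) :=
  ⟨fun {W} s => (mem_topology_iff _).2 fun w => by
    let O : W.left.Opens := ⟨(val T s) ⁻¹' {val T s w},
      (val T s).2.isOpen_fiber _⟩
    haveI : AlgebraicGeometry.Etale W.hom := W.prop
    refine ⟨Scheme.Etale.mk (O.ι ≫ W.hom), MorphismProperty.Over.homMk O.ι rfl, ⟨w, rfl⟩,
      ⟨val T s w, LocallyConstant.ext fun a => ?_⟩, rfl⟩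
    exact a.2.symm⟩

/-- the constant sheaf is the sheaf of locally constant functions -/
noncomputable def constIsoLc (X : Scheme.{u}) :
    (constantSheaf X.smallEtaleTopology AddCommGrpCat.{u + 1}).obj (AddCommGrpCat.of T) ≅ lcSheaf T X := by
  let J := X.smallEtaleTopology
  haveI : IsIso ((presheafToSheaf J AddCommGrpCat.{u + 1}).map (constIncl T X)) := by
    have hW : J.W (constIncl T X) :=
      (J.W_iff_isLocallyBijective _).2 ⟨isLocallyInjective_constIncl T, isLocallySurjective_constIncl T⟩
    rwa [J.W_iff] at hW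
  exact asIso ((presheafToSheaf J AddCommGrpCat.{u + 1}).map (constIncl T X)) ≪≫
    asIso ((sheafificationAdjunction J AddCommGrpCat.{u + 1}).counit.app (lcSheaf T X))

end Groth.Agent.EtFinEmbed
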