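import Groth.Agent.EtFinEmbed.LocConstSheaf
import Groth.Agent.EtFinEmbed.Descent
import Groth.Agent.EtFound.CompactObj
import Groth.Agent.EtContLib.Colimit

/-! direct images of constant sheaves along a limit of morphisms -/

set_option autoImplicit false
set_option linter.style.haveILetI false

universe u

open CategoryTheory CategoryTheory.Limits AlgebraicGeometry Opposite

namespace Groth.Agent.EtFinEmbed

set_option backward.isDefEq.respectTransparency false
set_option backward.isDefEq.respectTransparency.types false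

variable {X : Scheme.{u}} (T : Type (u + 1)) [AddCommGroup T]

/-- the change of base along a morphism over `X` -/
noncomputable def bcAlong {Z Z' : Scheme.{u}} {π : Z ⟶ X} {π' : Z' ⟶ X} (t : Z ⟶ Z') (w : t ≫ π' = π)
    (V : X.Etale) : ((EtCoh.bc π).obj V).left ⟶ ((EtCoh.bc π').obj V).left :=
  pullback.lift (pullback.fst V.hom π) (pullback.snd V.hom π ≫ t) (by
    rw [Category.assoc, w, pullback.condition])

theorem bcAlong_natural {Z Z' : Scheme.{u}} {π : Z ⟶ X} {π' : Z' ⟶ X} (t : Z ⟶ Z') (w : t ≫ π' = π)
    {V V' : X.Etale} (g : V' ⟶ V) :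
    bcAlong t w V' ≫ ((EtCoh.bc π').map g).left = ((EtCoh.bc π).map g).left ≫ bcAlong t w V := by
  apply pullback.hom_ext
  · refine (Category.assoc _ _ _).trans ((whisker_eq _ (EtCoh.isPullback_bc_map π' g).w).trans ?_)
    refine ((Category.assoc _ _ _).symm.trans (eq_whisker (pullback.lift_fst _ _ _) _)).trans (Eq.symm ?_)
    exact (Category.assoc _ _ _).trans ((whisker_eq _ (pullback.lift_fst _ _ _)).trans
      (EtCoh.isPullback_bc_map π g).w)
  · refine (Category.assoc _ _ _).trans ((whisker_eq _ (MorphismProperty.Over.w ((EtCoh.bc π').map g))).trans ?_)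
    refine (pullback.lift_snd _ _ _).trans (Eq.symm ?_)
    refine (Category.assoc _ _ _).trans ((whisker_eq _ (pullback.lift_snd _ _ _)).trans ?_)
    exact (Category.assoc _ _ _).symm.trans (eq_whisker (MorphismProperty.Over.w ((EtCoh.bc π).map g)) _)

/-- the direct image of the sheaf of locally constant functions -/
noncomputable abbrev pushLc {Z : Scheme.{u}} (π : Z ⟶ X) : EtCoh.Ab X :=
  (EtCoh.push π).obj (lcSheaf T Z)

/-- restriction along a morphism over `X` -/
noncomputable def pushLcMap {Z Z' : Scheme.{u}} {π : Z ⟶ X} {π' : Z' ⟶ X} (t : Z ⟶ Z') (w : t ≫ π' = π) :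
    pushLc T π' ⟶ pushLc T π :=
  ⟨{ app := fun V => comapHom T (bcAlong t w V.unop)
     naturality := fun V V' g => by
       show comapHom T ((EtCoh.bc π').map g.unop).left ≫ comapHom T (bcAlong t w V'.unop) =
         comapHom T (bcAlong t w V.unop) ≫ comapHom T ((EtCoh.bc π).map g.unop).left
       rw [← comapHom_comp, ← comapHom_comp, bcAlong_natural] }⟩

theorem pushLcMap_comp {Z Z' Z'' : Scheme.{u}} {π : Z ⟶ X} {π' : Z' ⟶ X} {π'' : Z'' ⟶ X}
    (t : Z ⟶ Z') (w : t ≫ π' = π) (t' : Z' ⟶ Z'') (w' : t' ≫ π'' = π') (r : Z ⟶ Z'') (hr : r = t ≫ t')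
    (w'' : r ≫ π'' = π) : pushLcMap T t' w' ≫ pushLcMap T t w = pushLcMap T r w'' := by
  subst hr
  refine Sheaf.hom_ext (NatTrans.ext (funext fun V => ?_))
  show comapHom T (bcAlong t' w' V.unop) ≫ comapHom T (bcAlong t w V.unop) =
    comapHom T (bcAlong (t ≫ t') w'' V.unop)
  rw [← comapHom_comp]
  refine congrArg (comapHom T) (pullback.hom_ext ?_ ?_)
  · simp [bcAlong]
  · simp [bcAlong, Category.assoc]

theorem pushLcMap_id {Z : Scheme.{u}} {π : Z ⟶ X} (r : Z ⟶ Z) (hr : r = 𝟙 Z) (w : r ≫ π = π) :
    pushLcMap T r w = 𝟙 _ := by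
  subst hr
  refine Sheaf.hom_ext (NatTrans.ext (funext fun V => ?_))
  show comapHom T (bcAlong (𝟙 Z) w V.unop) = 𝟙 _
  rw [show bcAlong (𝟙 Z) w V.unop = 𝟙 _ from pullback.hom_ext ((pullback.lift_fst _ _ _).trans (Category.id_comp _).symm)
      (((pullback.lift_snd _ _ _).trans (Category.comp_id _)).trans (Category.id_comp _).symm)]
  exact comapHom_id T _

variable {I : Type u} [Preorder I] [IsDirected I (· ≤ ·)] [Nonempty I] (E : Iᵒᵖ ⥤ Over X) (c : Cone E)

/-- the direct images at the stages -/
noncomputable def stageDiag : I ⥤ EtCoh.Ab X where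
  obj k := pushLc T (E.obj (op k)).hom
  map h := pushLcMap T (E.map h.op).left (Over.w (E.map h.op))
  map_id k := pushLcMap_id T _ (by simp) _
  map_comp {i j k} f g := (pushLcMap_comp T _ _ _ _ _ (by simp) _).symm

/-- the comparison cocone -/
noncomputable def stageCocone : Cocone (stageDiag T E) where
  pt := pushLc T c.pt.hom
  ι :=
    { app := fun k => pushLcMap T (c.π.app (op k)).left (Over.w _)
      naturality := fun i j g => by
        refine Eq.trans ?_ (Category.comp_id _).symm
        exact pushLcMap_comp T _ _ _ _ _ (congrArg CommaMorphism.left (c.w g.op)).symm _ }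

/-- the stages over an étale scheme -/
noncomputable def wSys (W : X.Etale) : Iᵒᵖ ⥤ Scheme.{u} where
  obj a := ((EtCoh.bc (E.obj a).hom).obj W).left
  map h := bcAlong (E.map h).left (Over.w _) W
  map_id a := pullback.hom_ext ((pullback.lift_fst _ _ _).trans (Category.id_comp _).symm)
    (((pullback.lift_snd _ _ _).trans ((whisker_eq _ (by simp)).trans (Category.comp_id _))).trans
      (Category.id_comp _).symm)
  map_comp f g := pullback.hom_ext (by simp [bcAlong]) (by simp [bcAlong])

/-- their cone -/
noncomputable def wCone' (W : X.Etale) : Cone (wSys E W) where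
  pt := ((EtCoh.bc c.pt.hom).obj W).left
  π :=
    { app := fun a => bcAlong (c.π.app a).left (Over.w _) W
      naturality := fun a b g => pullback.hom_ext (by simp [bcAlong, wSys]) (by
        simp only [bcAlong, wSys, Functor.const_obj_obj, Functor.const_obj_map, Category.id_comp,
          Category.assoc, pullback.lift_snd, pullback.lift_snd_assoc]
        rw [← Over.comp_left, c.w g]) }

/-- it is a limit -/
noncomputable def isLimitWCone' (hc : IsLimit c) (W : X.Etale) : IsLimit (wCone' E c W) := by
  let a₀ : Iᵒᵖ := op (Classical.arbitrary I)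
  have hfst : ∀ (σ : Cone (wSys E W)) {a b : Iᵒᵖ} (_ : a ⟶ b),
      σ.π.app a ≫ pullback.fst W.hom (E.obj a).hom = σ.π.app b ≫ pullback.fst W.hom (E.obj b).hom := by
    intro σ a b g
    rw [← σ.w g]
    simp [wSys, bcAlong]
  have hfst₀ : ∀ (σ : Cone (wSys E W)) (a : Iᵒᵖ),
      σ.π.app a ≫ pullback.fst W.hom (E.obj a).hom = σ.π.app a₀ ≫ pullback.fst W.hom (E.obj a₀).hom := by
    intro σ a
    obtain ⟨m, h1, h2⟩ := exists_ge_ge a.unop (Classical.arbitrary I)
    exact (hfst σ (a := op m) (b := a) (homOfLE h1).op).symm.trans (hfst σ (b := a₀) (homOfLE h2).op)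
  let base : ∀ σ : Cone (wSys E W), Over X := fun σ =>
    Over.mk (σ.π.app a₀ ≫ pullback.fst W.hom (E.obj a₀).hom ≫ W.hom)
  let cE : ∀ σ : Cone (wSys E W), Cone E := fun σ =>
    { pt := base σ
      π :=
        { app := fun a => Over.homMk (σ.π.app a ≫ pullback.snd W.hom (E.obj a).hom) (by
            show (σ.π.app a ≫ _) ≫ (E.obj a).hom = σ.π.app a₀ ≫ _
            rw [Category.assoc, ← pullback.condition, ← Category.assoc, hfst₀ σ a, Category.assoc])
          naturality := fun a b g => Over.OverMorphism.ext (by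
            simp only [Functor.const_obj_obj, Functor.const_obj_map, Category.id_comp, Over.comp_left,
              Over.homMk_left]
            rw [← σ.w g]
            simp [wSys, bcAlong]) } }
  exact
  { lift := fun σ => pullback.lift (σ.π.app a₀ ≫ pullback.fst W.hom (E.obj a₀).hom) (hc.lift (cE σ)).left
      ((Category.assoc _ _ _).trans (Over.w (hc.lift (cE σ))).symm)
    fac := fun σ a => pullback.hom_ext (by
        refine (Category.assoc _ _ _).trans ((whisker_eq _ (pullback.lift_fst _ _ _)).trans ?_)
        exact (pullback.lift_fst _ _ _).trans (hfst₀ σ a).symm) (by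
        refine (Category.assoc _ _ _).trans ((whisker_eq _ (pullback.lift_snd _ _ _)).trans ?_)
        refine ((Category.assoc _ _ _).symm.trans (eq_whisker (pullback.lift_snd _ _ _) _)).trans ?_
        exact congrArg CommaMorphism.left (hc.fac (cE σ) a))
    uniq := fun σ m hm => by
      have h1 : m ≫ pullback.fst W.hom c.pt.hom = σ.π.app a₀ ≫ pullback.fst W.hom (E.obj a₀).hom := by
        rw [← hm a₀]
        simp [wCone', bcAlong]
      apply pullback.hom_ext
      · exact h1.trans (pullback.lift_fst _ _ _).symm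
      · refine Eq.trans ?_ (pullback.lift_snd _ _ _).symm
        let m' : (cE σ).pt ⟶ c.pt := Over.homMk (m ≫ pullback.snd W.hom c.pt.hom) (by
          show (m ≫ _) ≫ c.pt.hom = σ.π.app a₀ ≫ _
          rw [Category.assoc, ← pullback.condition, ← Category.assoc, h1, Category.assoc])
        have hm' : m' = hc.lift (cE σ) := hc.uniq (cE σ) m' fun a => Over.OverMorphism.ext (by
          show (m ≫ _) ≫ (c.π.app a).left = σ.π.app a ≫ _
          rw [← hm a]
          simp [wCone', bcAlong])
        exact congrArg CommaMorphism.left hm' }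

variable {T} in
/-- the direct image along the limit is the colimit -/
theorem isIso_desc [Finite T] (hc : IsLimit c) (hA : ∀ a, IsAffineHom (E.obj a).hom) :
    IsIso (colimit.desc (stageDiag T E) (stageCocone T E c)) := by
  let t := stageCocone T E c
  let D := stageDiag T E
  let d : colimit D ⟶ t.pt := colimit.desc D t
  have hd : ∀ i, colimit.ι D i ≫ d = t.ι.app i := fun i => colimit.ι_desc t i
  have key : ∀ (W : X.Etale), IsAffine W.left → IsIso (d.hom.app (op W)) := fun W hW => by
    let Γ := sheafToPresheaf X.smallEtaleTopology AddCommGrpCat.{u + 1} ⋙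
      (evaluation X.Etaleᵒᵖ AddCommGrpCat.{u + 1}).obj (op W)
    haveI := hW
    haveI : IsFiltered I := isFiltered_of_directed_le_nonempty I
    haveI : IsCofiltered Iᵒᵖ := inferInstance
    haveI : PreservesColimitsOfShape I Γ := EtContLib.preservesColimit_sections_small W I
    let h₁ := isColimitOfPreserves Γ (colimit.isColimit D)
    haveI : ∀ a, IsAffine ((wSys E W).obj a) := fun a => by
      haveI := hA a
      haveI : IsAffine ((𝟭 Scheme.{u}).obj W.left) := hW
      haveI : IsAffineHom (pullback.fst W.hom (E.obj a).hom) := MorphismProperty.pullback_fst _ _ (hA a)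
      exact isAffine_of_isAffineHom (pullback.fst W.hom (E.obj a).hom)
    haveI : ∀ {a b : Iᵒᵖ} (g : a ⟶ b), IsAffineHom ((wSys E W).map g) := fun g => isAffineHom_of_isAffine _
    haveI : ∀ a, CompactSpace ((wSys E W).obj a) := fun a => inferInstance
    haveI : ∀ a, QuasiSeparatedSpace ((wSys E W).obj a) := fun a => inferInstance
    have hlim := isLimitWCone' E c hc W
    rw [ConcreteCategory.isIso_iff_bijective]
    have hev : ∀ (k : I) (s : (D.obj k).obj.obj (op W)),
        d.hom.app (op W) ((colimit.ι D k).hom.app (op W) s) = comapHom T ((wCone' E c W).π.app (op k)) s :=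
      fun k s => (ConcreteCategory.comp_apply _ _ _).symm.trans
        (ConcreteCategory.congr_hom (congrArg (fun q => q.hom.app (op W)) (hd k)) s)
    refine ⟨fun x y hxy => ?_, fun s => ?_⟩
    · obtain ⟨i, a, rfl⟩ := Concrete.isColimit_exists_rep _ h₁ x
      obtain ⟨j, b, rfl⟩ := Concrete.isColimit_exists_rep _ h₁ y
      obtain ⟨m, hi, hj⟩ := exists_ge_ge i j
      let a' := (D.map (homOfLE hi)).hom.app (op W) a
      let b' := (D.map (homOfLE hj)).hom.app (op W) b
      have ha : ((Γ.mapCocone (colimit.cocone D)).ι.app i) a = (colimit.ι D m).hom.app (op W) a' :=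
        ((ConcreteCategory.congr_hom (congrArg (fun q => q.hom.app (op W)) (colimit.w D (homOfLE hi))) a).symm.trans
          (ConcreteCategory.comp_apply _ _ _))
      have hb : ((Γ.mapCocone (colimit.cocone D)).ι.app j) b = (colimit.ι D m).hom.app (op W) b' :=
        ((ConcreteCategory.congr_hom (congrArg (fun q => q.hom.app (op W)) (colimit.w D (homOfLE hj))) b).symm.trans
          (ConcreteCategory.comp_apply _ _ _))
      rw [ha, hb] at hxy ⊢
      rw [hev, hev] at hxy
      obtain ⟨k, g, hk⟩ := exists_map_eq_of_eq (wSys E W) (wCone' E c W) hlim (i := op m)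
        (val T a') (val T b') (fun z => congrArg (fun q : LocallyConstant _ T => q z) hxy)
      have hmk : m ≤ k.unop := leOfHom g.unop
      have e : (D.map (homOfLE hmk)).hom.app (op W) a' = (D.map (homOfLE hmk)).hom.app (op W) b' :=
        LocallyConstant.ext fun z => hk z
      have w := fun x => (ConcreteCategory.congr_hom (congrArg (fun q => q.hom.app (op W))
        (colimit.w D (homOfLE hmk))) x).symm.trans (ConcreteCategory.comp_apply _ _ _)
      rw [w a', w b', e]
    · obtain ⟨k, t', ht'⟩ := exists_stage_locallyConstant (wSys E W) (wCone' E c W) hlim (T := T) (val T s)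
      refine ⟨(colimit.ι D k.unop).hom.app (op W) t', ?_⟩
      rw [hev]
      exact LocallyConstant.ext fun z => ht' z
  haveI : Mono d := EtTorLib.mono_of_affine d fun W _ s hs => by
    haveI := key W ‹_›
    exact (ConcreteCategory.bijective_of_isIso (d.hom.app (op W))).1 (hs.trans (map_zero _).symm)
  haveI : Epi d := EtTorLib.epi_of_locally d fun U s x => by
    obtain ⟨W, g, hW, w, hw⟩ := EtTorLib.exists_affine_nhd U x
    haveI := key W hW
    obtain ⟨a, ha⟩ := (ConcreteCategory.bijective_of_isIso (d.hom.app (op W))).2 (t.pt.obj.map g.op s)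
    exact ⟨W, g, w, a, ha, hw⟩
  exact isIso_of_mono_of_epi d

variable {T} in
/-- maps from compact objects come from a stage -/
theorem exists_stage_hom [Finite T] [CompactSpace X] [QuasiSeparatedSpace X] (hc : IsLimit c)
    (hA : ∀ a, IsAffineHom (E.obj a).hom) {F : EtCoh.Ab X} (hF : EtPBC.IsConstructible F)
    (φ : F ⟶ pushLc T c.pt.hom) :
    ∃ (k : I) (ψ : F ⟶ pushLc T (E.obj (op k)).hom),
      ψ ≫ pushLcMap T (c.π.app (op k)).left (Over.w _) = φ := by
  haveI := isIso_desc E c hc hA (T := T)
  haveI : IsFiltered I := isFiltered_of_directed_le_nonempty I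
  let e := asIso (colimit.desc (stageDiag T E) (stageCocone T E c))
  haveI := (EtFound.isCpt_of_isConstructible hF).preservesColimitsOfShape_small I
  obtain ⟨k, ψ, hψ⟩ := Types.jointly_surjective _
    (isColimitOfPreserves (coyoneda.obj (op F)) (colimit.isColimit (stageDiag T E))) (φ ≫ e.inv)
  refine ⟨k, ψ, ?_⟩
  have h1 : ψ ≫ colimit.ι (stageDiag T E) k = φ ≫ e.inv := hψ
  have h2 : (ψ ≫ colimit.ι (stageDiag T E) k) ≫ e.hom = φ := by rw [h1, Category.assoc, e.inv_hom_id]; exact Category.comp_id φ
  rw [Category.assoc] at h2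
  exact (whisker_eq ψ (colimit.ι_desc (stageCocone T E c) k)).symm.trans h2

end Groth.Agent.EtFinEmbed
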